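import Groth.Agent.CrimpLib.Quad

/-!
The two smooth double covers of the formal disk.
-/

set_option autoImplicit false
universe u
open PowerSeries

namespace Groth.Agent.CrimpLib

variable {k : Type u} [Field k] [CharZero k]

theorem isUnit_two : IsUnit (2 : PowerSeries k) := by
  rw [show (2 : PowerSeries k) = C (2 : k) from (map_ofNat C 2).symm]
  exact (IsUnit.mk0 _ two_ne_zero).map _

theorem double_etale (b : ℕ) (S : Subalgebra (PowerSeries k) (Fin 2 → PowerSeries k)) :
    ((∃ bS : Module.Basis (Fin 2) (PowerSeries k) S,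
      Ideal.span {Algebra.discr (PowerSeries k) ⇑bS} = Ideal.span {(PowerSeries.X : PowerSeries k) ^ b}) ↔
    ∃ n : ℕ, b = 2 * n ∧
      Subalgebra.toSubmodule S = Submodule.span (PowerSeries k) {(1 : (Fin 2 → PowerSeries k))} ⊔
        Ideal.span {(PowerSeries.X : PowerSeries k) ^ n} • (⊤ : Submodule (PowerSeries k) (Fin 2 → PowerSeries k))) ∧
    (∀ n : ℕ, Subalgebra.toSubmodule S = Submodule.span (PowerSeries k) {(1 : (Fin 2 → PowerSeries k))} ⊔
        Ideal.span {(PowerSeries.X : PowerSeries k) ^ n} • (⊤ : Submodule (PowerSeries k) (Fin 2 → PowerSeries k)) →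
      Nonempty (S ≃ₐ[PowerSeries k] AdjoinRoot (Polynomial.X ^ 2 - Polynomial.C ((PowerSeries.X : PowerSeries k) ^ (2 * n))))) := by
  let e : Fin 2 → PowerSeries k := ![1, 0]
  have hli : LinearIndependent (PowerSeries k) (![1, e] : Fin 2 → (Fin 2 → PowerSeries k)) := by
    rw [Fintype.linearIndependent_iff]
    intro g hg
    have h0 := congrFun hg 0
    have h1 := congrFun hg 1
    simp [Fin.sum_univ_two, e] at h0 h1
    exact Fin.forall_fin_two.mpr ⟨h1, by rwa [h1, zero_add] at h0⟩
  have hsp : ⊤ ≤ Submodule.span (PowerSeries k) (Set.range (![1, e] : Fin 2 → (Fin 2 → PowerSeries k))) := by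
    intro y _
    rw [Submodule.mem_span_range_iff_exists_fun]
    refine ⟨![y 1, y 0 - y 1], funext fun i => ?_⟩
    fin_cases i <;> simp [Fin.sum_univ_two, e]
  let bas := Module.Basis.mk hli hsp
  have h0 : bas 0 = 1 := Module.Basis.mk_apply hli hsp 0
  have h1 : bas 1 = e := Module.Basis.mk_apply hli hsp 1
  have he : e * e = (1 : PowerSeries k) • e + (0 : PowerSeries k) • 1 := by
    funext i; fin_cases i <;> simp [e]
  constructor
  · simpa using quad_iff bas e 1 0 h0 h1 he S 0 (by simp) b
  · intro n hn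
    have := quad_iso bas e 1 0 h0 h1 he n S hn 1 1 isUnit_one isUnit_two (by ring)
    rwa [mul_one] at this

theorem double_ramified (b : ℕ)
    (S : Subalgebra (PowerSeries k) (AdjoinRoot (Polynomial.X ^ 2 - Polynomial.C (PowerSeries.X : PowerSeries k)))) :
    ((∃ bS : Module.Basis (Fin 2) (PowerSeries k) S,
      Ideal.span {Algebra.discr (PowerSeries k) ⇑bS} = Ideal.span {(PowerSeries.X : PowerSeries k) ^ b}) ↔
    ∃ n : ℕ, b = 2 * n + 1 ∧
      Subalgebra.toSubmodule S = Submodule.span (PowerSeries k) {(1 : (AdjoinRoot (Polynomial.X ^ 2 - Polynomial.C (PowerSeries.X : PowerSeries k))))} ⊔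
        Ideal.span {(PowerSeries.X : PowerSeries k) ^ n} • (⊤ : Submodule (PowerSeries k) (AdjoinRoot (Polynomial.X ^ 2 - Polynomial.C (PowerSeries.X : PowerSeries k))))) ∧
    (∀ n : ℕ, Subalgebra.toSubmodule S = Submodule.span (PowerSeries k) {(1 : (AdjoinRoot (Polynomial.X ^ 2 - Polynomial.C (PowerSeries.X : PowerSeries k))))} ⊔
        Ideal.span {(PowerSeries.X : PowerSeries k) ^ n} • (⊤ : Submodule (PowerSeries k) (AdjoinRoot (Polynomial.X ^ 2 - Polynomial.C (PowerSeries.X : PowerSeries k)))) →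
      Nonempty (S ≃ₐ[PowerSeries k] AdjoinRoot (Polynomial.X ^ 2 - Polynomial.C ((PowerSeries.X : PowerSeries k) ^ (2 * n + 1))))) := by
  let f := Polynomial.X ^ 2 - Polynomial.C (PowerSeries.X : PowerSeries k)
  have hmonic : f.Monic := Polynomial.monic_X_pow_sub_C _ (by norm_num)
  have hdim : (AdjoinRoot.powerBasis' hmonic).dim = 2 := Polynomial.natDegree_X_pow_sub_C
  let bas := (AdjoinRoot.powerBasis' hmonic).basis.reindex (finCongr hdim)
  have hb : ∀ i, bas i = AdjoinRoot.root f ^ (i : ℕ) := fun i => by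
    simp [bas, PowerBasis.coe_basis]
  have h0 : bas 0 = 1 := by simp [hb]
  have h1 : bas 1 = AdjoinRoot.root f := by simp [hb]
  have he : AdjoinRoot.root f * AdjoinRoot.root f =
      (0 : PowerSeries k) • AdjoinRoot.root f + (X : PowerSeries k) • 1 := by
    have h := AdjoinRoot.eval₂_root f
    simp [f] at h
    rw [zero_smul, zero_add, Algebra.smul_def, mul_one, ← pow_two, AdjoinRoot.algebraMap_eq]
    linear_combination h
  obtain ⟨w, hw⟩ := (isUnit_two (k := k)).exists_left_inv
  constructor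
  · refine quad_iff bas _ 0 X h0 h1 he S 1 ?_ b
    rw [pow_one, mul_zero, zero_add, show (4 : PowerSeries k) = 2 * 2 by norm_num]
    exact Ideal.span_singleton_mul_left_unit (isUnit_two.mul isUnit_two) _
  · intro n hn
    rw [pow_succ (X : PowerSeries k) (2 * n)]
    exact quad_iso bas _ 0 X h0 h1 he n S hn w X (IsUnit.of_mul_eq_one _ hw) isUnit_two
      (by linear_combination ((X : PowerSeries k) * (w * 2 + 1)) * hw)

end Groth.Agent.CrimpLib
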