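import Groth.Prelude.Def_W4c1hurwitzcptBd
import Mathlib

/-!
Closedness under multiplication of spans in ramified covers of the formal disk.
-/

set_option autoImplicit false
set_option linter.style.haveILetI false
universe u
open PowerSeries W4c1hurwitzcpt

namespace Groth.Agent.CrimpLib

variable {k : Type u} [Field k]

theorem order_eq_of_congr {φ ψ c : PowerSeries k} {N n : ℕ} (h : φ = ψ + X ^ n * c) (hφ : φ.order = N)
    (hn : N < n) : ψ.order = N := by
  rw [order_eq_nat] at hφ ⊢
  have hco : ∀ i < n, coeff i φ = coeff i ψ := fun i hi => by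
    rw [h, map_add, coeff_X_pow_mul', if_neg (not_le.mpr hi), add_zero]
  exact ⟨hco N hn ▸ hφ.1, fun i hi => hco i (hi.trans hn) ▸ hφ.2 i hi⟩

theorem val_smul {p : ℕ} [NeZero p] (a : PowerSeries k) (y : RootDisk p k) :
    RootDisk.val (a • y) = expand p (NeZero.ne p) a * RootDisk.val y := rfl

theorem val_pow_mul {p : ℕ} {x : RootDisk p k} (hx : RootDisk.val x = X) (n : ℕ) (y : RootDisk p k) :
    RootDisk.val (x ^ n * y) = X ^ n * RootDisk.val y := by rw [map_mul, map_pow, hx]

theorem closed_iff (m n : ℕ) (hm : ¬ 3 ∣ m) (x g : RootDisk 3 k)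
    (hx : RootDisk.val x = PowerSeries.X) (hg : PowerSeries.order (RootDisk.val g) = 0)
    (M : Submodule (PowerSeries k) (RootDisk 3 k))
    (hM : M = Submodule.span (PowerSeries k) {1, x ^ m * g} ⊔
      (Ideal.span {x ^ n} : Ideal (RootDisk 3 k)).restrictScalars (PowerSeries k)) :
    (∀ a ∈ M, ∀ b ∈ M, a * b ∈ M) ↔ n ≤ 2 * m := by
  set J : Ideal (RootDisk 3 k) := Ideal.span {x ^ n}
  constructor
  · intro h
    by_contra hlt
    rw [not_le] at hlt
    have hv : x ^ m * g ∈ M := hM ▸ Submodule.mem_sup_left (Submodule.subset_span (by simp))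
    have hsq := h _ hv _ hv
    rw [hM] at hsq
    obtain ⟨y, hy, z, hz, hyz⟩ := Submodule.mem_sup.mp hsq
    obtain ⟨a, b, rfl⟩ := Submodule.mem_span_pair.mp hy
    obtain ⟨c, rfl⟩ := Ideal.mem_span_singleton'.mp hz
    have heq := congrArg RootDisk.val hyz
    rw [map_add, map_add, val_smul, val_smul, map_one, mul_one, mul_comm c, val_pow_mul hx,
      val_pow_mul hx, map_mul, val_pow_mul hx] at heq
    have hord : ((X : PowerSeries k) ^ m * RootDisk.val g * (X ^ m * RootDisk.val g)).order = ((2 * m : ℕ) : ℕ∞) := by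
      rw [order_mul, order_mul, order_X_pow, hg, add_zero, ← Nat.cast_add, two_mul]
    have h2 := order_eq_of_congr heq.symm hord hlt
    set P := expand 3 (NeZero.ne 3) a with hP
    set Q := expand 3 (NeZero.ne 3) b * (X ^ m * RootDisk.val g) with hQ
    have hPo : P.order = 3 • a.order := order_expand _ _ _
    have hQo : Q.order = 3 • b.order + (m : ℕ∞) := by
      rw [hQ, order_mul, order_mul, order_X_pow, hg, add_zero, order_expand]
    have key : ∀ (o : ℕ∞) (e : ℕ), 3 • o + (e : ℕ∞) = ((2 * m : ℕ) : ℕ∞) → 3 ∣ (2 * m - e) := by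
      intro o e ho
      induction o using ENat.recTopCoe with
      | top => exact absurd (by simpa using ho) (ENat.top_ne_natCast (2 * m))
      | coe o =>
        rw [nsmul_eq_mul] at ho
        have ho' : 3 * o + e = 2 * m := by exact_mod_cast ho
        omega
    by_cases hne : P.order = Q.order
    · rcases eq_or_ne a 0 with ha | ha
      · simp only [hP, ha, map_zero, zero_add] at h2
        rw [hQo] at h2
        have := key _ m h2
        omega
      · obtain ⟨o, ho⟩ := ENat.ne_top_iff_exists.mp (order_finite_iff_ne_zero.mpr ha).ne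
        rw [hPo, hQo, ← ho] at hne
        rcases eq_or_ne b 0 with hb | hb
        · rw [hb, order_zero, nsmul_eq_mul, nsmul_eq_mul] at hne
          simp [ENat.mul_top] at hne
          exact absurd hne (by exact_mod_cast ENat.natCast_ne_top (3 * o))
        · obtain ⟨o', ho'⟩ := ENat.ne_top_iff_exists.mp (order_finite_iff_ne_zero.mpr hb).ne
          rw [← ho', nsmul_eq_mul, nsmul_eq_mul] at hne
          have : 3 * o = 3 * o' + m := by exact_mod_cast hne
          omega
    · have h3 := order_add_of_order_ne _ _ hne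
      rw [h2] at h3
      rcases min_choice P.order Q.order with h4 | h4
      · rw [show P.order ⊓ Q.order = P.order from h4, hPo] at h3
        have := key a.order 0 (by rw [Nat.cast_zero, add_zero]; exact h3.symm)
        omega
      · rw [show P.order ⊓ Q.order = Q.order from h4, hQo] at h3
        have := key b.order m h3.symm
        omega
  · intro hle
    have hJM : ∀ z ∈ J, z ∈ M := fun z hz => hM ▸ Submodule.mem_sup_right hz
    have hsq : x ^ m * g * (x ^ m * g) ∈ J := by
      refine Ideal.mem_span_singleton'.mpr ⟨x ^ (2 * m - n) * g * g, ?_⟩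
      have e : x ^ (2 * m - n) * x ^ n = x ^ m * x ^ m := by
        rw [← pow_add, ← pow_add, Nat.sub_add_cancel hle, two_mul]
      linear_combination (g * g) * e
    intro a ha b hb
    rw [hM] at ha hb
    obtain ⟨p, hp, z, hz, rfl⟩ := Submodule.mem_sup.mp ha
    obtain ⟨q, hq, w, hw, rfl⟩ := Submodule.mem_sup.mp hb
    have hwJ : w ∈ J := hw
    have hzJ : z ∈ J := hz
    rw [add_mul, mul_add, add_assoc]
    refine add_mem ?_ (hJM _ (add_mem (J.mul_mem_left _ hwJ) (J.mul_mem_right _ hzJ)))
    obtain ⟨a₁, b₁, rfl⟩ := Submodule.mem_span_pair.mp hp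
    obtain ⟨a₂, b₂, rfl⟩ := Submodule.mem_span_pair.mp hq
    have e : (a₁ • (1 : RootDisk 3 k) + b₁ • (x ^ m * g)) * (a₂ • (1 : RootDisk 3 k) + b₂ • (x ^ m * g)) =
        ((a₁ * a₂) • (1 : RootDisk 3 k) + (a₁ * b₂ + b₁ * a₂) • (x ^ m * g)) +
          (b₁ * b₂) • (x ^ m * g * (x ^ m * g)) := by
      simp only [Algebra.smul_def, map_mul, map_add]
      ring
    rw [e]
    refine add_mem ?_ (hJM _ (Submodule.smul_of_tower_mem _ _ hsq))
    rw [hM]
    exact Submodule.mem_sup_left (Submodule.mem_span_pair.mpr ⟨_, _, rfl⟩)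

theorem not_closed (m n : ℕ) (hm : Odd m) (hmn : 2 * m < n) (x g : RootDisk 2 k)
    (hx : RootDisk.val x = PowerSeries.X) (hg : PowerSeries.order (RootDisk.val g) = 0)
    (M : Submodule (PowerSeries k) (RootDisk 2 k × PowerSeries k))
    (hM : M = Submodule.span (PowerSeries k) {(1 : RootDisk 2 k × PowerSeries k), (x ^ m * g, 0)} ⊔
      ((Ideal.span {x ^ n} : Ideal (RootDisk 2 k)).restrictScalars (PowerSeries k)).prod ⊥) :
    ∃ a ∈ M, ∃ b ∈ M, a * b ∉ M := by
  have hv : ((x ^ m * g, 0) : RootDisk 2 k × PowerSeries k) ∈ M :=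
    hM ▸ Submodule.mem_sup_left (Submodule.subset_span (by simp))
  refine ⟨_, hv, _, hv, fun hsq => ?_⟩
  rw [hM] at hsq
  obtain ⟨y, hy, z, hz, hyz⟩ := Submodule.mem_sup.mp hsq
  obtain ⟨a, b, rfl⟩ := Submodule.mem_span_pair.mp hy
  obtain ⟨hz1, hz2⟩ := Submodule.mem_prod.mp hz
  rw [Submodule.mem_bot] at hz2
  obtain ⟨c, hc⟩ := Ideal.mem_span_singleton'.mp hz1
  have ha : a = 0 := by
    have := congrArg Prod.snd hyz
    simpa [hz2] using this
  have h1 := congrArg Prod.fst hyz
  simp only [ha, zero_smul, zero_add, Prod.fst_add, Prod.smul_fst, Prod.fst_mul, ← hc] at h1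
  have heq := congrArg RootDisk.val h1
  rw [map_add, val_smul, mul_comm c, val_pow_mul hx, val_pow_mul hx, map_mul, val_pow_mul hx] at heq
  have hord : ((X : PowerSeries k) ^ m * RootDisk.val g * (X ^ m * RootDisk.val g)).order = ((2 * m : ℕ) : ℕ∞) := by
    rw [order_mul, order_mul, order_X_pow, hg, add_zero, ← Nat.cast_add, two_mul]
  have h2 := order_eq_of_congr heq.symm hord hmn
  rw [order_mul, order_mul, order_X_pow, hg, add_zero, order_expand, nsmul_eq_mul] at h2
  obtain ⟨j, rfl⟩ := hm
  rcases eq_or_ne b 0 with hb | hb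
  · rw [hb, order_zero] at h2
    simp [ENat.mul_top] at h2
    exact absurd h2 (ENat.top_ne_natCast _)
  · obtain ⟨o, ho⟩ := ENat.ne_top_iff_exists.mp (order_finite_iff_ne_zero.mpr hb).ne
    rw [← ho] at h2
    have : 2 * o + (2 * j + 1) = 2 * (2 * j + 1) := by exact_mod_cast h2
    omega

end Groth.Agent.CrimpLib
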