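import Mathlib

/-!
Crimps of double covers and of the split triple cover of the formal disk.
-/

set_option autoImplicit false
set_option linter.style.haveILetI false
universe u
open PowerSeries Matrix

namespace Groth.Agent.CrimpLib

variable {k : Type u} [Field k] {T : Type u} [CommRing T] [Algebra (PowerSeries k) T]


section quad
variable (bas : Module.Basis (Fin 2) (PowerSeries k) T) (e : T) (p q : PowerSeries k)
  (h0 : bas 0 = 1) (h1 : bas 1 = e) (he : e * e = p • e + q • 1)

include h0 h1 in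
theorem quad_decomp (y : T) : ∃ a c : (PowerSeries k), y = a • 1 + c • e :=
  ⟨bas.repr y 0, bas.repr y 1, by rw [← h0, ← h1, ← Fin.sum_univ_two (f := fun i => bas.repr y i • bas i), bas.sum_repr]⟩

include h0 h1 in
theorem quad_indep {a c : (PowerSeries k)} (h : a • (1 : T) + c • e = 0) : a = 0 ∧ c = 0 := by
  have := Fintype.linearIndependent_iff.mp bas.linearIndependent ![a, c] (by simpa [Fin.sum_univ_two, h0, h1] using h)
  exact ⟨this 0, this 1⟩

variable (n : ℕ) (S : Subalgebra (PowerSeries k) T)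
  (hS : Subalgebra.toSubmodule S = Submodule.span (PowerSeries k) {(1 : T)} ⊔ Ideal.span {(X : PowerSeries k) ^ n} • (⊤ : Submodule (PowerSeries k) T))

include h0 h1 hS in
theorem mem_quad (y : T) : y ∈ S ↔ ∃ a c : (PowerSeries k), y = a • 1 + c • ((X : PowerSeries k) ^ n • e) := by
  rw [← Subalgebra.mem_toSubmodule, hS, Submodule.mem_sup]
  simp only [Submodule.ideal_span_singleton_smul]
  constructor
  · rintro ⟨u, hu, v, hv, rfl⟩
    obtain ⟨a, rfl⟩ := Submodule.mem_span_singleton.mp hu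
    rw [Submodule.mem_smul_pointwise_iff_exists] at hv
    obtain ⟨w, -, rfl⟩ := hv
    obtain ⟨a', c, rfl⟩ := quad_decomp bas e h0 h1 w
    exact ⟨a + (X : PowerSeries k) ^ n * a', c, by rw [smul_add, smul_smul, smul_comm ((X : PowerSeries k) ^ n) c e, add_smul, add_assoc]⟩
  · rintro ⟨a, c, rfl⟩
    exact ⟨a • 1, Submodule.mem_span_singleton.mpr ⟨a, rfl⟩, c • ((X : PowerSeries k) ^ n • e),
      by rw [smul_comm]; exact Submodule.smul_mem_pointwise_smul _ _ _ trivial, rfl⟩

include h0 h1 he hS in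
theorem exists_basis_discr :
    ∃ b : Module.Basis (Fin 2) (PowerSeries k) S, (b 0 : T) = 1 ∧ (b 1 : T) = (X : PowerSeries k) ^ n • e ∧
      Algebra.discr (PowerSeries k) ⇑b = (X : PowerSeries k) ^ (2 * n) * (p * p + 4 * q) := by
  have hmem : (X : PowerSeries k) ^ n • e ∈ S := (mem_quad bas e h0 h1 n S hS _).mpr ⟨0, 1, by simp⟩
  let v : Fin 2 → S := ![1, ⟨_, hmem⟩]
  have hli : LinearIndependent (PowerSeries k) v := by
    rw [Fintype.linearIndependent_iff]
    intro g hg
    have h := congrArg (fun s : S => (s : T)) hg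
    simp [Fin.sum_univ_two, v, smul_smul] at h
    obtain ⟨ha, hc⟩ := quad_indep bas e h0 h1 h
    exact Fin.forall_fin_two.mpr ⟨ha, (mul_eq_zero.mp hc).resolve_right (pow_ne_zero _ X_ne_zero)⟩
  have hsp : ⊤ ≤ Submodule.span (PowerSeries k) (Set.range v) := by
    rintro ⟨y, hy⟩ -
    obtain ⟨a, c, rfl⟩ := (mem_quad bas e h0 h1 n S hS y).mp hy
    rw [Submodule.mem_span_range_iff_exists_fun]
    exact ⟨![a, c], Subtype.ext (by simp [Fin.sum_univ_two, v])⟩
  let b := Module.Basis.mk hli hsp
  have hb : ∀ i, b i = v i := fun i => Module.Basis.mk_apply hli hsp i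
  refine ⟨b, by rw [hb]; rfl, by rw [hb]; rfl, ?_⟩
  have hb0 : b 0 = 1 := hb 0
  have hsq : b 1 * b 1 = ((X : PowerSeries k) ^ n * p) • b 1 + ((X : PowerSeries k) ^ (2 * n) * q) • b 0 := by
    apply Subtype.ext
    rw [hb, hb]
    simp only [v, Matrix.cons_val_one, Matrix.cons_val_zero, Subalgebra.coe_mul, Subalgebra.coe_add,
      Subalgebra.coe_smul, Subalgebra.coe_one]
    rw [smul_mul_smul_comm, he, smul_add, smul_smul, smul_smul, smul_smul, two_mul, pow_add]
    ring_nf
  have htr1 : Algebra.trace (PowerSeries k) S (b 0) = 2 := by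
    rw [hb0, show (1 : S) = algebraMap (PowerSeries k) S 1 by simp, Algebra.trace_algebraMap_of_basis b]; simp
  have htre : Algebra.trace (PowerSeries k) S (b 1) = (X : PowerSeries k) ^ n * p := by
    rw [Algebra.trace_eq_matrix_trace b, Matrix.trace, Fin.sum_univ_two]
    simp only [Matrix.diag_apply, Algebra.leftMulMatrix_eq_repr_mul]
    rw [hsq, show b 1 * b 0 = b 1 by rw [hb0, mul_one]]
    simp
  rw [Algebra.discr_def, Matrix.det_fin_two]
  simp only [Algebra.traceMatrix_apply, Algebra.traceForm_apply]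
  rw [show b 0 * b 0 = b 0 by rw [hb0, one_mul], show b 0 * b 1 = b 1 by rw [hb0, one_mul],
    show b 1 * b 0 = b 1 by rw [hb0, mul_one], hsq, map_add, map_smul, map_smul, htr1, htre, smul_eq_mul,
    smul_eq_mul]
  ring

include h0 h1 he in
theorem quad_iff (e₀ : ℕ) (hd : Ideal.span {p * p + 4 * q} = Ideal.span {(X : PowerSeries k) ^ e₀}) (b : ℕ) :
    ((∃ bS : Module.Basis (Fin 2) (PowerSeries k) S, Ideal.span {Algebra.discr (PowerSeries k) ⇑bS} = Ideal.span {(X : PowerSeries k) ^ b}) ↔
      ∃ m : ℕ, b = 2 * m + e₀ ∧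
        Subalgebra.toSubmodule S = Submodule.span (PowerSeries k) {(1 : T)} ⊔ Ideal.span {(X : PowerSeries k) ^ m} • (⊤ : Submodule (PowerSeries k) T)) := by
  have hval : ∀ m, (Subalgebra.toSubmodule S = Submodule.span (PowerSeries k) {(1 : T)} ⊔ Ideal.span {(X : PowerSeries k) ^ m} • (⊤ : Submodule (PowerSeries k) T)) →
      ∀ bS : Module.Basis (Fin 2) (PowerSeries k) S, Ideal.span {Algebra.discr (PowerSeries k) ⇑bS} = Ideal.span {(X : PowerSeries k) ^ (2 * m + e₀)} := by
    intro m hm bS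
    obtain ⟨b', -, -, hb'⟩ := exists_basis_discr bas e p q h0 h1 he m S hm
    have h2 : ⇑bS ᵥ* (bS.toMatrix b').map (algebraMap (PowerSeries k) S) = ⇑b' := bS.toMatrix_map_vecMul b'
    have h3 := Algebra.discr_of_matrix_vecMul (⇑bS) (bS.toMatrix b')
    rw [h2] at h3
    have hu : IsUnit (bS.toMatrix b').det :=
      (Matrix.isUnit_iff_isUnit_det _).mp (IsUnit.of_mul_eq_one _ (bS.toMatrix_mul_toMatrix_flip b'))
    rw [← Ideal.span_singleton_mul_left_unit (hu.pow 2) (Algebra.discr (PowerSeries k) ⇑bS), ← h3, hb',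
      ← Ideal.span_singleton_mul_span_singleton, hd, Ideal.span_singleton_mul_span_singleton, pow_add]
  constructor
  · rintro ⟨bS, hbS⟩
    let I : Ideal (PowerSeries k) :=
      { carrier := {c | c • e ∈ S}
        add_mem' := fun ha hb => by simp only [Set.mem_setOf_eq, add_smul] at *; exact S.add_mem ha hb
        zero_mem' := by simp only [Set.mem_setOf_eq, zero_smul]; exact S.zero_mem
        smul_mem' := fun r a ha => by simp only [Set.mem_setOf_eq, smul_eq_mul, mul_smul] at *; exact S.smul_mem ha r }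
    have hI : I ≠ ⊥ := by
      intro hI
      have hall : ∀ s : S, ∃ a : (PowerSeries k), (s : T) = a • 1 := by
        rintro ⟨y, hy⟩
        obtain ⟨a, c, rfl⟩ := quad_decomp bas e h0 h1 y
        have hc : c ∈ I := by
          show c • e ∈ S
          have := S.sub_mem hy (S.smul_mem S.one_mem a)
          simpa using this
        rw [hI, Ideal.mem_bot] at hc
        exact ⟨a, by simp [hc]⟩
      obtain ⟨a₀, ha₀⟩ := hall (bS 0)
      obtain ⟨a₁, ha₁⟩ := hall (bS 1)
      have h := Fintype.linearIndependent_iff.mp bS.linearIndependent ![a₁, -a₀] (Subtype.ext (by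
        simp [Fin.sum_univ_two, ha₀, ha₁, smul_smul, mul_comm]))
      have ha : a₁ = 0 := h 0
      exact bS.ne_zero 1 (Subtype.ext (by rw [ha₁, ha]; simp))
    obtain ⟨m, hm⟩ := IsDiscreteValuationRing.ideal_eq_span_pow_irreducible hI PowerSeries.X_irreducible
    have hSm : Subalgebra.toSubmodule S = Submodule.span (PowerSeries k) {(1 : T)} ⊔ Ideal.span {(X : PowerSeries k) ^ m} • (⊤ : Submodule (PowerSeries k) T) := by
      refine le_antisymm (fun y hy => ?_) (sup_le ?_ ?_)
      · obtain ⟨a, c, rfl⟩ := quad_decomp bas e h0 h1 y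
        have hc : c ∈ I := by
          show c • e ∈ S
          have := S.sub_mem hy (S.smul_mem S.one_mem a)
          simpa using this
        rw [hm] at hc
        exact Submodule.add_mem_sup (Submodule.mem_span_singleton.mpr ⟨a, rfl⟩)
          (Submodule.smul_mem_smul hc trivial)
      · rw [Submodule.span_le, Set.singleton_subset_iff]; exact S.one_mem
      · rw [Submodule.smul_le]
        intro r hr y _
        obtain ⟨a, c, rfl⟩ := quad_decomp bas e h0 h1 y
        rw [smul_add, smul_smul, smul_smul]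
        refine add_mem (S.smul_mem S.one_mem _) ?_
        have : r * c ∈ I := hm ▸ Ideal.mul_mem_right c _ hr
        exact this
    refine ⟨m, ?_, hSm⟩
    rw [hval m hSm bS, Ideal.span_singleton_eq_span_singleton] at hbS
    obtain ⟨u, hu⟩ := hbS
    have := congrArg PowerSeries.order hu
    rw [order_mul, order_X_pow, order_X_pow, order_zero_of_unit u.isUnit, add_zero] at this
    exact_mod_cast this.symm
  · rintro ⟨m, rfl, hm⟩
    obtain ⟨b', -, -, -⟩ := exists_basis_discr bas e p q h0 h1 he m S hm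
    exact ⟨b', hval m hm b'⟩

include h0 h1 he hS in
theorem quad_iso (c d : (PowerSeries k)) (hc : IsUnit c) (h2 : IsUnit (2 : (PowerSeries k))) (hcd : c * c * (p * p + 4 * q) = d) :
    Nonempty (S ≃ₐ[(PowerSeries k)] AdjoinRoot (Polynomial.X ^ 2 - Polynomial.C ((X : PowerSeries k) ^ (2 * n) * d))) := by
  obtain ⟨b, hb0, hb1, -⟩ := exists_basis_discr bas e p q h0 h1 he n S hS
  set f := (Polynomial.X ^ 2 - Polynomial.C ((X : PowerSeries k) ^ (2 * n) * d)) with hf
  let y : S := (2 * c) • b 1 - (c * (X : PowerSeries k) ^ n * p) • b 0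
  have hy : y * y = ((X : PowerSeries k) ^ (2 * n) * d) • (1 : S) := by
    apply Subtype.ext
    have e1 : e * e = algebraMap (PowerSeries k) T p * e + algebraMap (PowerSeries k) T q := by rw [he]; simp [Algebra.smul_def]
    simp only [y, Subalgebra.coe_mul, Subalgebra.coe_sub, Subalgebra.coe_smul, Subalgebra.coe_one, hb0, hb1]
    simp only [← hcd, Algebra.smul_def, map_mul, map_add, map_pow, map_ofNat, mul_one, two_mul n, pow_add]
    linear_combination (4 * algebraMap (PowerSeries k) T c ^ 2 * algebraMap (PowerSeries k) T (X : PowerSeries k) ^ (2 * n)) * e1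
  have hroot : Polynomial.aeval y f = 0 := by
    simp [hf, pow_two, hy, Algebra.smul_def]
  let φ : AdjoinRoot f →ₐ[(PowerSeries k)] S := AdjoinRoot.liftAlgHom f (Algebra.ofId (PowerSeries k) S) y hroot
  have hφ : φ (AdjoinRoot.root f) = y := AdjoinRoot.liftAlgHom_root _ _ _ _
  have hsurj : Function.Surjective φ := by
    have hone : b 0 = 1 := Subtype.ext (by rw [hb0]; rfl)
    have hr : ∀ i, b i ∈ φ.range := by
      rw [Fin.forall_fin_two]
      refine ⟨hone ▸ φ.range.one_mem, ?_⟩
      obtain ⟨w, hw⟩ := (h2.mul hc).exists_left_inv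
      have : b 1 = w • y + (w * (c * (X : PowerSeries k) ^ n * p)) • b 0 := by
        rw [show y = (2 * c) • b 1 - (c * (X : PowerSeries k) ^ n * p) • b 0 from rfl, smul_sub, smul_smul, smul_smul, hw,
          one_smul, sub_add_cancel]
      rw [this]
      exact add_mem (φ.range.smul_mem ⟨_, hφ⟩ _) (φ.range.smul_mem (hone ▸ φ.range.one_mem) _)
    intro s
    have : s ∈ φ.range := by
      rw [← b.sum_repr s]
      exact sum_mem fun i _ => φ.range.smul_mem (hr i) _
    exact this
  have hmonic : f.Monic := Polynomial.monic_X_pow_sub_C _ (by norm_num)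
  let pb := (AdjoinRoot.powerBasis' hmonic).basis
  have hdim : (AdjoinRoot.powerBasis' hmonic).dim = 2 := Polynomial.natDegree_X_pow_sub_C
  let E : AdjoinRoot f ≃ₗ[(PowerSeries k)] S := pb.equiv b (finCongr hdim)
  haveI : Module.Finite (PowerSeries k) S := Module.Finite.of_basis b
  have hinj : Function.Injective φ := by
    have hs : Function.Surjective (φ.toLinearMap ∘ₗ E.symm.toLinearMap) := hsurj.comp E.symm.surjective
    have hi := OrzechProperty.injective_of_surjective_endomorphism _ hs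
    intro u v huv
    obtain ⟨u, rfl⟩ := E.symm.surjective u
    obtain ⟨v, rfl⟩ := E.symm.surjective v
    exact congrArg E.symm (hi huv)
  exact ⟨(AlgEquiv.ofBijective φ ⟨hinj, hsurj⟩).symm⟩

end quad

theorem triple_crimp (m n : ℕ) (hmn : m ≤ n) (hn : n ≤ 2 * m)
    (f : (Fin 3 → (PowerSeries k))) (hf : f ∉ Submodule.span (PowerSeries k) {(1 : (Fin 3 → (PowerSeries k)))} ⊔ Ideal.span {(X : PowerSeries k)} • (⊤ : Submodule (PowerSeries k) (Fin 3 → (PowerSeries k))))
    (S : Submodule (PowerSeries k) (Fin 3 → (PowerSeries k)))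
    (hS : S = Submodule.span (PowerSeries k) {(1 : (Fin 3 → (PowerSeries k))), ((X : PowerSeries k) ^ m) • f} ⊔
        Ideal.span {(X : PowerSeries k) ^ n} • (⊤ : Submodule (PowerSeries k) (Fin 3 → (PowerSeries k)))) :
    (∀ x ∈ S, ∀ y ∈ S, x * y ∈ S) ∧
    Nonempty (((Fin 3 → (PowerSeries k)) ⧸ S) ≃ₗ[(PowerSeries k)] (((PowerSeries k) ⧸ Ideal.span {(X : PowerSeries k) ^ m}) × ((PowerSeries k) ⧸ Ideal.span {(X : PowerSeries k) ^ n}))) := by
  classical
  -- two coordinates of `f` differ by a unit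
  obtain ⟨i, j, hij⟩ : ∃ i j, IsUnit (f i - f j) := by
    by_contra hcon
    push Not at hcon
    have hd : ∀ i, ∃ c, f i - f 0 = (X : PowerSeries k) * c := fun i => by
      have := hcon i 0
      rw [PowerSeries.isUnit_iff_constantCoeff, isUnit_iff_ne_zero, not_not, ← PowerSeries.X_dvd_iff] at this
      exact this
    choose c hc using hd
    refine hf ?_
    rw [show f = f 0 • (1 : Fin 3 → (PowerSeries k)) + (X : PowerSeries k) • c by funext l; simp [← hc l]]
    exact Submodule.add_mem_sup (Submodule.mem_span_singleton.mpr ⟨_, rfl⟩)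
      (Submodule.smul_mem_smul (Ideal.mem_span_singleton_self _) trivial)
  have hne : i ≠ j := fun h => by simp [h] at hij
  obtain ⟨l, hli, hlj⟩ : ∃ l : Fin 3, l ≠ i ∧ l ≠ j :=
    (by decide : ∀ i j : Fin 3, i ≠ j → ∃ l : Fin 3, l ≠ i ∧ l ≠ j) i j hne
  obtain ⟨u, hu⟩ := hij.exists_left_inv
  have hcases : ∀ r : Fin 3, r = i ∨ r = j ∨ r = l :=
    (by decide : ∀ i j l : Fin 3, i ≠ j → l ≠ i → l ≠ j → ∀ r, r = i ∨ r = j ∨ r = l) i j l hne hli hlj
  let β : (Fin 3 → (PowerSeries k)) →ₗ[(PowerSeries k)] (PowerSeries k) :=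
    u • ((LinearMap.proj i : (Fin 3 → PowerSeries k) →ₗ[PowerSeries k] PowerSeries k) - LinearMap.proj j)
  let γ : (Fin 3 → (PowerSeries k)) →ₗ[(PowerSeries k)] (PowerSeries k) :=
    (LinearMap.proj l : (Fin 3 → PowerSeries k) →ₗ[PowerSeries k] PowerSeries k) - LinearMap.proj i - (f l - f i) • β
  let Φ : (Fin 3 → (PowerSeries k)) →ₗ[(PowerSeries k)] ((PowerSeries k) ⧸ Ideal.span {(X : PowerSeries k) ^ m}) × ((PowerSeries k) ⧸ Ideal.span {(X : PowerSeries k) ^ n}) :=
    LinearMap.prod ((Submodule.mkQ _) ∘ₗ β) ((Submodule.mkQ _) ∘ₗ γ)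
  have hβ : ∀ y, β y = u * (y i - y j) := fun y => rfl
  have hγ : ∀ y, γ y = y l - y i - (f l - f i) * β y := fun y => rfl
  have hdec : ∀ y : Fin 3 → (PowerSeries k), y = (y i - β y * f i) • (1 : Fin 3 → (PowerSeries k)) + β y • f + γ y • Pi.single l (1 : (PowerSeries k)) := by
    intro y
    funext r
    rcases hcases r with h | h | h
    · simp [h, Ne.symm hli]
    · simp [h, Ne.symm hlj, hβ]
      linear_combination (y i - y j) * hu
    · simp [h, hγ]
      ring
  have hval : ∀ (a b c : (PowerSeries k)), β (a • 1 + b • f + c • Pi.single l (1 : (PowerSeries k))) = b ∧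
      γ (a • 1 + b • f + c • Pi.single l (1 : (PowerSeries k))) = c := by
    intro a b c
    have e1 : β (a • 1 + b • f + c • Pi.single l (1 : (PowerSeries k))) = b := by
      simp [hβ, Ne.symm hli, Ne.symm hlj]
      linear_combination b * hu
    refine ⟨e1, ?_⟩
    rw [hγ, e1]
    simp [Ne.symm hli]
    ring
  have hΦ : ∀ y, Φ y = (Submodule.Quotient.mk (β y), Submodule.Quotient.mk (γ y)) := fun y => rfl
  have hker : LinearMap.ker Φ = S := by
    ext y
    rw [LinearMap.mem_ker, hΦ, Prod.mk_eq_zero, Submodule.Quotient.mk_eq_zero, Submodule.Quotient.mk_eq_zero]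
    constructor
    · rintro ⟨hb, hc⟩
      obtain ⟨b', hb'⟩ := Ideal.mem_span_singleton'.mp hb
      rw [hdec y, hS]
      refine Submodule.add_mem_sup (Submodule.mem_span_pair.mpr ⟨y i - β y * f i, b', ?_⟩)
        (Submodule.smul_mem_smul hc trivial)
      rw [smul_smul, hb']
    · intro hy
      rw [hS, Submodule.mem_sup] at hy
      obtain ⟨p, hp, w, hw, rfl⟩ := hy
      obtain ⟨a, b, rfl⟩ := Submodule.mem_span_pair.mp hp
      rw [Submodule.ideal_span_singleton_smul, Submodule.mem_smul_pointwise_iff_exists] at hw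
      obtain ⟨v, -, rfl⟩ := hw
      have h1 := hval a (b * X ^ m) 0
      rw [zero_smul, add_zero, mul_smul] at h1
      rw [β.map_add (_ + _), γ.map_add (_ + _), h1.1, h1.2, zero_add, map_smul, map_smul, smul_eq_mul, smul_eq_mul]
      exact ⟨add_mem (Ideal.mul_mem_left _ _ (Ideal.mem_span_singleton_self _))
        (Ideal.mul_mem_right _ _ (Ideal.mem_span_singleton.mpr (pow_dvd_pow _ hmn))),
        Ideal.mul_mem_right _ _ (Ideal.mem_span_singleton_self _)⟩
  have hsurj : Function.Surjective Φ := by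
    rintro ⟨b, c⟩
    obtain ⟨b, rfl⟩ := Submodule.Quotient.mk_surjective _ b
    obtain ⟨c, rfl⟩ := Submodule.Quotient.mk_surjective _ c
    refine ⟨(0 : (PowerSeries k)) • 1 + b • f + c • Pi.single l (1 : (PowerSeries k)), ?_⟩
    obtain ⟨e1, e2⟩ := hval 0 b c
    rw [hΦ, e1, e2]
  refine ⟨?_, ⟨(Submodule.quotEquivOfEq _ _ hker.symm).trans (LinearMap.quotKerEquivOfSurjective Φ hsurj)⟩⟩
  have hJ : ∀ v : Fin 3 → (PowerSeries k), (X : PowerSeries k) ^ n • v ∈ S := fun v => hS ▸ Submodule.mem_sup_right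
    (Submodule.smul_mem_smul (Ideal.mem_span_singleton_self _) trivial)
  intro x hx y hy
  rw [hS, Submodule.mem_sup] at hx hy
  obtain ⟨p, hp, w, hw, rfl⟩ := hx
  obtain ⟨p', hp', w', hw', rfl⟩ := hy
  obtain ⟨a, b, rfl⟩ := Submodule.mem_span_pair.mp hp
  obtain ⟨a', b', rfl⟩ := Submodule.mem_span_pair.mp hp'
  rw [Submodule.ideal_span_singleton_smul, Submodule.mem_smul_pointwise_iff_exists] at hw hw'
  obtain ⟨v, -, rfl⟩ := hw
  obtain ⟨v', -, rfl⟩ := hw'
  set P := a • (1 : Fin 3 → (PowerSeries k)) + b • (X : PowerSeries k) ^ m • f with hP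
  set P' := a' • (1 : Fin 3 → (PowerSeries k)) + b' • (X : PowerSeries k) ^ m • f with hP'
  have e : (P + (X : PowerSeries k) ^ n • v) * (P' + (X : PowerSeries k) ^ n • v') =
      ((a * a') • (1 : Fin 3 → (PowerSeries k)) + (a * b' + b * a') • (X : PowerSeries k) ^ m • f) +
        (X : PowerSeries k) ^ n • ((b * b' * X ^ (2 * m - n)) • (f * f) + P * v' + v * (P' + (X : PowerSeries k) ^ n • v')) := by
    have e2 : (X : PowerSeries k) ^ n * X ^ (2 * m - n) = X ^ m * X ^ m := by
      rw [← pow_add, Nat.add_sub_cancel' hn, two_mul, pow_add]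
    funext r
    simp only [hP, hP', Pi.add_apply, Pi.mul_apply, Pi.smul_apply, Pi.one_apply, smul_eq_mul]
    linear_combination (-(b * b' * f r * f r)) * e2
  rw [e]
  refine add_mem ?_ (hJ _)
  rw [hS]
  exact Submodule.mem_sup_left (Submodule.mem_span_pair.mpr ⟨_, _, rfl⟩)

end Groth.Agent.CrimpLib
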